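import Mathlib.FieldTheory.IsPerfectClosure
import Mathlib.RingTheory.FinitePresentation
import Mathlib.Algebra.Category.Ring.Under.Basic
import Mathlib.CategoryTheory.Presentable.Finite
import Mathlib.CategoryTheory.ObjectProperty.FullSubcategory

/-!
# Finitely presentable perfect algebras are perfections of finitely presented algebras
-/

universe u

open CategoryTheory Limits

namespace Groth.Agent.H84PerfModel

variable (p : ℕ) [Fact p.Prime] (B : CommRingCat.{u})

/-- The category of perfect `B`-algebras. -/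
abbrev Cat := ObjectProperty.FullSubcategory
  fun Y : Under B => (p : Y.right) = 0 ∧ Function.Bijective fun y : Y.right => y ^ p

variable {p B}

/-- An object of the category. -/
def obj (X : Type u) [CommRing X] (f : B →+* X) (h0 : (p : X) = 0) (hb : Function.Bijective fun y : X => y ^ p) :
    Cat p B :=
  ⟨Under.mk (CommRingCat.ofHom f), h0, hb⟩

/-- A morphism of the category. -/
def hom {X Y : Cat p B} (g : X.obj.right →+* Y.obj.right) (w : ∀ b, g (X.obj.hom.hom b) = Y.obj.hom.hom b) :
    X ⟶ Y :=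
  ObjectProperty.homMk (Under.homMk (CommRingCat.ofHom g) (CommRingCat.hom_ext (RingHom.ext w)))

theorem hom_apply {X Y : Cat p B} (g : X.obj.right →+* Y.obj.right) (w) (x : X.obj.right) :
    (hom (X := X) (Y := Y) g w).hom.right.hom x = g x := rfl

theorem comp_apply {X Y Z : Cat p B} (a : X ⟶ Y) (b : Y ⟶ Z) (x : X.obj.right) :
    (a ≫ b).hom.right.hom x = b.hom.right.hom (a.hom.right.hom x) := rfl

theorem id_apply {X : Cat p B} (x : X.obj.right) : (𝟙 X : X ⟶ X).hom.right.hom x = x := rfl

theorem hom_w {X Y : Cat p B} (a : X ⟶ Y) (b : B) : a.hom.right.hom (X.obj.hom.hom b) = Y.obj.hom.hom b :=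
  congrArg (fun f : B ⟶ Y.obj.right => f.hom b) (Under.w a.hom)

theorem hom_ext' {X Y : Cat p B} {a b : X ⟶ Y} (h : ∀ x, a.hom.right.hom x = b.hom.right.hom x) : a = b :=
  ObjectProperty.hom_ext _ (Under.UnderMorphism.ext (CommRingCat.hom_ext (RingHom.ext h)))

section Sub

variable (A : Type u) [CommRing A] [CharP A p] [Algebra B A]

variable (p) in
/-- Elements with a `p`-power in the subalgebra generated by a finite set. -/
def rootAdjoin (S : Finset A) : Subalgebra B A where
  carrier := {x | ∃ n : ℕ, x ^ p ^ n ∈ Algebra.adjoin B (S : Set A)}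
  mul_mem' := by
    rintro x y ⟨n, hn⟩ ⟨m, hm⟩
    refine ⟨n + m, ?_⟩
    rw [mul_pow]
    nth_rewrite 1 [pow_add]
    rw [pow_mul, pow_add p n m, mul_comm (p ^ n), pow_mul y]
    exact mul_mem (pow_mem hn _) (pow_mem hm _)
  add_mem' := by
    rintro x y ⟨n, hn⟩ ⟨m, hm⟩
    refine ⟨n + m, ?_⟩
    rw [add_pow_char_pow]
    nth_rewrite 1 [pow_add]
    rw [pow_mul, pow_add p n m, mul_comm (p ^ n), pow_mul y]
    exact add_mem (pow_mem hn _) (pow_mem hm _)
  algebraMap_mem' r := ⟨0, by rw [pow_zero, pow_one]; exact Subalgebra.algebraMap_mem _ r⟩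

theorem rootAdjoin_mono {S T : Finset A} (h : S ≤ T) : rootAdjoin p A (B := B) S ≤ rootAdjoin p A T :=
  fun _ ⟨n, hn⟩ => ⟨n, Algebra.adjoin_mono (Finset.coe_subset.2 h) hn⟩

theorem mem_rootAdjoin_singleton (x : A) : x ∈ rootAdjoin p A (B := B) {x} :=
  ⟨0, by rw [pow_zero, pow_one]; exact Algebra.subset_adjoin (by simp)⟩

theorem rootAdjoin_bijective [PerfectRing A p] (S : Finset A) :
    Function.Bijective fun y : rootAdjoin p A (B := B) S => y ^ p := by
  constructor
  · intro x y h
    exact Subtype.ext (injective_frobenius A p (congrArg Subtype.val h))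
  · intro x
    obtain ⟨y, hy⟩ := surjective_frobenius A p x.1
    obtain ⟨n, hn⟩ := x.2
    refine ⟨⟨y, n + 1, ?_⟩, Subtype.ext hy⟩
    rw [pow_succ', pow_mul]
    rw [frobenius_def] at hy
    rwa [hy]

end Sub

section Ideal

variable {R S : Type u} [CommRing R] [CommRing S]

/-- Extension of ideals along a p-radical map does not enlarge radicals. -/
theorem mem_radical_of_map {p : ℕ} [Fact p.Prime] [CharP S p] (i : R →+* S) [IsPRadical i p] (I : Ideal R) {f : R} (h : i f ∈ (I.map i).radical) : f ∈ I.radical := by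
  have key : ∀ x ∈ I.map i, ∃ n : ℕ, ∃ g ∈ I, x ^ p ^ n = i g := by
    intro x hx
    induction hx using Submodule.span_induction with
    | mem x hx =>
      obtain ⟨g, hg, rfl⟩ := hx
      exact ⟨0, g, hg, by rw [pow_zero, pow_one]⟩
    | zero => exact ⟨0, 0, I.zero_mem, by simp⟩
    | add x y _ _ hx hy =>
      obtain ⟨n, g, hg, hx⟩ := hx
      obtain ⟨m, h, hh, hy⟩ := hy
      have hp := (Fact.out : p.Prime).pos
      refine ⟨n + m, g ^ p ^ m + h ^ p ^ n,
        I.add_mem (I.pow_mem_of_mem hg _ (pow_pos hp m)) (I.pow_mem_of_mem hh _ (pow_pos hp n)), ?_⟩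
      rw [add_pow_char_pow, map_add, map_pow, map_pow, ← hx, ← hy, ← pow_mul, ← pow_mul, ← pow_add, ← pow_add,
        add_comm m n]
    | smul r x _ hx =>
      obtain ⟨n, g, hg, hx⟩ := hx
      obtain ⟨m, c, hc⟩ := IsPRadical.pow_mem i p r
      have hp := (Fact.out : p.Prime).pos
      refine ⟨n + m, c ^ p ^ n * g ^ p ^ m, I.mul_mem_left _ (I.pow_mem_of_mem hg _ (pow_pos hp m)), ?_⟩
      rw [smul_eq_mul, mul_pow, map_mul, map_pow, map_pow, hc, ← hx, ← pow_mul, ← pow_mul, ← pow_add, ← pow_add,
        add_comm m n]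
  obtain ⟨N, hN⟩ := h
  obtain ⟨n, g, hg, hgf⟩ := key _ hN
  have : f ^ (N * p ^ n) - g ∈ pNilradical R p := IsPRadical.ker_le i p (by
    rw [RingHom.mem_ker, map_sub, map_pow, pow_mul, hgf, sub_self])
  obtain ⟨M, hM⟩ := pNilradical_le_nilradical this
  have h2 : f ^ (N * p ^ n) ∈ I.radical := by
    have h3 : f ^ (N * p ^ n) - g ∈ I.radical := ⟨M, by rw [hM]; exact I.zero_mem⟩
    simpa using add_mem h3 (Ideal.le_radical hg)
  exact I.radical_isRadical ⟨_, h2⟩

end Ideal

section System

variable (A : Cat p B)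

/-- A directed system of perfect `B`-algebras with colimit `A`, on the level of rings. -/
structure Sys (J : Type u) [Preorder J] where
  /-- The rings. -/
  X : J → Type u
  [ring : ∀ j, CommRing (X j)]
  /-- The structure maps. -/
  str : ∀ j, B →+* X j
  h0 : ∀ j, (p : X j) = 0
  hb : ∀ j, Function.Bijective fun y : X j => y ^ p
  /-- The transition maps. -/
  map : ∀ {i j}, i ≤ j → X i →+* X j
  map_str : ∀ {i j} (h : i ≤ j) b, map h (str i b) = str j b
  map_id : ∀ j x, map (le_refl j) x = x
  map_comp : ∀ {i j k} (h : i ≤ j) (h' : j ≤ k) x, map (h.trans h') x = map h' (map h x)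
  /-- The maps to the colimit. -/
  incl : ∀ j, X j →+* A.obj.right
  incl_str : ∀ j b, incl j (str j b) = A.obj.hom.hom b
  incl_map : ∀ {i j} (h : i ≤ j) x, incl j (map h x) = incl i x
  surj : ∀ a, ∃ j x, incl j x = a
  zero : ∀ j x, incl j x = 0 → ∃ k, ∃ h : j ≤ k, map h x = 0

attribute [instance] Sys.ring

variable {A} {J : Type u} [Preorder J] (D : Sys A J)

/-- The functor of a system. -/
noncomputable def Sys.functor : J ⥤ Cat p B where
  obj j := obj (D.X j) (D.str j) (D.h0 j) (D.hb j)
  map h := hom (D.map h.le) (D.map_str h.le)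
  map_id j := hom_ext' fun x => D.map_id j x
  map_comp f g := hom_ext' fun x => D.map_comp f.le g.le x

/-- The cocone of a system. -/
noncomputable def Sys.cocone : Cocone D.functor where
  pt := A
  ι :=
    { app := fun j => hom (D.incl j) (D.incl_str j)
      naturality := fun _ _ f => hom_ext' fun x => D.incl_map f.le x }

theorem Sys.app_map (s : Cocone D.functor) {i j : J} (h : i ≤ j) (x : D.X i) :
    (s.ι.app j).hom.right.hom (D.map h x) = (s.ι.app i).hom.right.hom x :=
  congrArg (fun m : D.functor.obj i ⟶ s.pt => m.hom.right.hom x) (s.w (homOfLE h))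

/-- The value of a cocone on an element. -/
noncomputable def Sys.val (s : Cocone D.functor) (a : A.obj.right) : s.pt.obj.right :=
  (s.ι.app (D.surj a).choose).hom.right.hom (D.surj a).choose_spec.choose

theorem Sys.val_eq [IsDirectedOrder J] (s : Cocone D.functor) (j : J) (x : D.X j) :
    D.val s (D.incl j x) = (s.ι.app j).hom.right.hom x := by
  obtain ⟨k, h1, h2⟩ := exists_ge_ge (D.surj (D.incl j x)).choose j
  have hh : D.incl k (D.map h1 (D.surj (D.incl j x)).choose_spec.choose - D.map h2 x) = 0 := by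
    rw [map_sub, D.incl_map, D.incl_map, (D.surj (D.incl j x)).choose_spec.choose_spec, sub_self]
  obtain ⟨l, hl, hz⟩ := D.zero k _ hh
  rw [map_sub, sub_eq_zero] at hz
  change (s.ι.app _).hom.right.hom _ = _
  rw [← D.app_map s h1, ← D.app_map s hl, hz, D.app_map s hl, D.app_map s h2]

/-- The cocone of a system is colimiting. -/
noncomputable def Sys.isColimit [IsDirectedOrder J] [Nonempty J] : IsColimit D.cocone where
  desc s := hom
    { toFun := D.val s
      map_one' := by
        obtain ⟨j⟩ := ‹Nonempty J›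
        exact ((congrArg (D.val s) (map_one (D.incl j)).symm).trans (D.val_eq s j 1)).trans (map_one (s.ι.app j).hom.right.hom)
      map_zero' := by
        obtain ⟨j⟩ := ‹Nonempty J›
        exact ((congrArg (D.val s) (map_zero (D.incl j)).symm).trans (D.val_eq s j 0)).trans (map_zero (s.ι.app j).hom.right.hom)
      map_mul' := fun (a b : A.obj.right) => by
        obtain ⟨i, x, rfl⟩ := D.surj a
        obtain ⟨j, y, rfl⟩ := D.surj b
        obtain ⟨k, h1, h2⟩ := exists_ge_ge i j
        rw [← D.incl_map h1 x, ← D.incl_map h2 y]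
        exact (((congrArg (D.val s) (map_mul (D.incl k) _ _).symm).trans (D.val_eq s k _)).trans
          (map_mul (s.ι.app k).hom.right.hom _ _)).trans
          (congrArg₂ (· * ·) (D.val_eq s k _).symm (D.val_eq s k _).symm)
      map_add' := fun (a b : A.obj.right) => by
        obtain ⟨i, x, rfl⟩ := D.surj a
        obtain ⟨j, y, rfl⟩ := D.surj b
        obtain ⟨k, h1, h2⟩ := exists_ge_ge i j
        rw [← D.incl_map h1 x, ← D.incl_map h2 y]
        exact (((congrArg (D.val s) (map_add (D.incl k) _ _).symm).trans (D.val_eq s k _)).trans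
          (map_add (s.ι.app k).hom.right.hom _ _)).trans
          (congrArg₂ (· + ·) (D.val_eq s k _).symm (D.val_eq s k _).symm) }
    fun b => by
      obtain ⟨j⟩ := ‹Nonempty J›
      exact ((congrArg (D.val s) (D.incl_str j b).symm).trans (D.val_eq s j _)).trans (hom_w (s.ι.app j) b)
  fac s j := hom_ext' fun x => D.val_eq s j x
  uniq s m hm := hom_ext' fun a => by
    obtain ⟨j, x, rfl⟩ := D.surj a
    exact (congrArg (fun m : D.functor.obj j ⟶ s.pt => m.hom.right.hom x) (hm j)).trans (D.val_eq s j x).symm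

include D in
/-- A finitely presentable colimit is a retract of a stage. -/
theorem Sys.exists_section [IsDirectedOrder J] [Nonempty J] [IsFinitelyPresentable.{u} A] :
    ∃ (j : J) (q : A.obj.right →+* D.X j),
      (∀ a, D.incl j (q a) = a) ∧ ∀ b, q (A.obj.hom.hom b) = D.str j b := by
  obtain ⟨j, q, hq⟩ := IsFinitelyPresentable.exists_hom_of_isColimit D.isColimit (𝟙 A)
  exact ⟨j, q.hom.right.hom, fun a => congrArg (fun m : A ⟶ A => m.hom.right.hom a) hq, fun b => hom_w q b⟩

end System

section Gen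

variable (A : Cat p B) [CharP A.obj.right p] [PerfectRing A.obj.right p]

/-- `A` as a `B`-algebra. -/
@[reducible] def algA : Algebra B A.obj.right := A.obj.hom.hom.toAlgebra

attribute [local instance] algA

/-- A directed family of perfect subalgebras covering `A`. -/
noncomputable def sysOfSubalgebras {J : Type u} [Preorder J] (R : J → Subalgebra B A.obj.right)
    (hR : Monotone R) (hb : ∀ j, Function.Bijective fun y : R j => y ^ p) (hcov : ∀ a, ∃ j, a ∈ R j) :
    Sys A J where
  X j := R j
  str j := algebraMap B _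
  h0 j := Subtype.ext (by push_cast; exact A.property.1)
  hb := hb
  map h := (Subalgebra.inclusion (hR h)).toRingHom
  map_str _ _ := Subtype.ext rfl
  map_id _ _ := Subtype.ext rfl
  map_comp _ _ _ := Subtype.ext rfl
  incl j := (R j).val.toRingHom
  incl_str _ _ := rfl
  incl_map _ _ := rfl
  surj a := ⟨(hcov a).choose, ⟨a, (hcov a).choose_spec⟩, rfl⟩
  zero j x hx := ⟨j, le_refl j, Subtype.ext hx⟩

/-- The system of perfect subalgebras generated by finite sets. -/
noncomputable def subSys : Sys A (Finset A.obj.right) :=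
  sysOfSubalgebras A (fun S => rootAdjoin p A.obj.right (B := B) S)
    (fun _ _ h => rootAdjoin_mono A.obj.right h) (rootAdjoin_bijective A.obj.right)
    (fun a => ⟨{a}, mem_rootAdjoin_singleton A.obj.right a⟩)

theorem exists_generators [IsFinitelyPresentable.{u} A] :
    ∃ S : Finset A.obj.right, ∀ x : A.obj.right, ∃ n : ℕ, x ^ p ^ n ∈ Algebra.adjoin B (S : Set A.obj.right) := by
  classical
  obtain ⟨S, q, hq, -⟩ := (subSys A).exists_section
  refine ⟨S, fun x => ?_⟩
  have h : x ∈ rootAdjoin p A.obj.right (B := B) S := by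
    rw [← hq x]
    exact Subtype.property (p := (· ∈ rootAdjoin p A.obj.right (B := B) S)) (q x)
  exact h

end Gen

section Quot

variable {A : Cat p B}

/-- A directed family of ideals exhausting the kernel of a surjection. -/
noncomputable def sysOfIdeals {E : Type u} [CommRing E] [CharP E p] {J : Type u} [Preorder J] [IsDirectedOrder J]
    [Nonempty J] (I : J → Ideal E) (hI : Monotone I) (hb : ∀ j, Function.Bijective fun y : E ⧸ I j => y ^ p)
    (c : B →+* E) (π : E →+* A.obj.right) (hπ : Function.Surjective π) (hle : ∀ j, I j ≤ RingHom.ker π)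
    (hker : ∀ y, π y = 0 → ∃ j, y ∈ I j) (hc : ∀ b, π (c b) = A.obj.hom.hom b) : Sys A J where
  X j := E ⧸ I j
  str j := (Ideal.Quotient.mk (I j)).comp c
  h0 j := by rw [← map_natCast (Ideal.Quotient.mk (I j)), CharP.cast_eq_zero, map_zero]
  hb := hb
  map h := Ideal.Quotient.factor (hI h)
  map_str _ _ := rfl
  map_id _ x := by obtain ⟨x, rfl⟩ := Ideal.Quotient.mk_surjective x; rfl
  map_comp _ _ x := by obtain ⟨x, rfl⟩ := Ideal.Quotient.mk_surjective x; rfl
  incl j := Ideal.Quotient.lift (I j) π fun _ hy => hle j hy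
  incl_str j b := hc b
  incl_map _ x := by obtain ⟨x, rfl⟩ := Ideal.Quotient.mk_surjective x; rfl
  surj a := ⟨Classical.arbitrary J, Ideal.Quotient.mk _ (hπ a).choose, (hπ a).choose_spec⟩
  zero j x hx := by
    obtain ⟨y, rfl⟩ := Ideal.Quotient.mk_surjective x
    obtain ⟨j1, hj1⟩ := hker y hx
    obtain ⟨k, h, h1⟩ := exists_ge_ge j j1
    exact ⟨k, h, Ideal.Quotient.eq_zero_iff_mem.2 (hI h1 hj1)⟩

end Quot

section Rel

variable {A : Cat p B} {P0 E : Type u} [CommRing P0] [CommRing E] [CharP E p] [PerfectRing E p]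
  (i : P0 →+* E) (π : E →+* A.obj.right) (c : B →+* P0)

/-- Finite sets of relations. -/
abbrev Rels := {T : Finset P0 // ∀ f ∈ T, π (i f) = 0}

/-- The radical ideal of a finite set of relations. -/
def relIdeal (T : Rels i π) : Ideal E := ((Ideal.span (T.1 : Set P0)).map i).radical

theorem relIdeal_mono {T T' : Rels i π} (h : T ≤ T') : relIdeal i π T ≤ relIdeal i π T' :=
  Ideal.radical_mono (Ideal.map_mono (Ideal.span_mono (Finset.coe_subset.2 h)))

theorem relIdeal_le [CharP A.obj.right p] [PerfectRing A.obj.right p] (T : Rels i π) :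
    relIdeal i π T ≤ RingHom.ker π := by
  have : IsReduced A.obj.right := by
    refine ⟨fun x ⟨n, hn⟩ => (injective_frobenius A.obj.right p).iterate n ?_⟩
    rw [iterate_frobenius, iterate_map_zero,
      pow_eq_zero_of_le (Nat.lt_pow_self (Fact.out : p.Prime).one_lt).le hn]
  have hrad : (RingHom.ker π).IsRadical := fun x ⟨n, hn⟩ => by
    rw [RingHom.mem_ker, map_pow] at hn
    exact IsReduced.eq_zero _ ⟨n, hn⟩
  refine hrad.radical_le_iff.2 (Ideal.map_le_iff_le_comap.2 (Ideal.span_le.2 fun f hf => ?_))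
  rw [SetLike.mem_coe, Ideal.mem_comap, RingHom.mem_ker, T.2 f hf]

theorem relIdeal_bijective (T : Rels i π) : Function.Bijective fun y : E ⧸ relIdeal i π T => y ^ p := by
  constructor
  · intro x y h
    obtain ⟨x, rfl⟩ := Ideal.Quotient.mk_surjective x
    obtain ⟨y, rfl⟩ := Ideal.Quotient.mk_surjective y
    simp only [← map_pow, Ideal.Quotient.eq, ← sub_pow_char] at h
    exact Ideal.Quotient.eq.2 (Ideal.radical_isRadical _ ⟨p, h⟩)
  · intro x
    obtain ⟨x, rfl⟩ := Ideal.Quotient.mk_surjective x
    obtain ⟨y, rfl⟩ := surjective_frobenius E p x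
    exact ⟨Ideal.Quotient.mk _ y, (map_pow _ y p).symm⟩

instance : IsDirectedOrder (Rels i π) := by
  classical
  exact ⟨fun a b => ⟨⟨a.1 ∪ b.1, fun f hf => (Finset.mem_union.1 hf).elim (a.2 f) (b.2 f)⟩,
    Finset.subset_union_left, Finset.subset_union_right⟩⟩

instance : Nonempty (Rels i π) := ⟨⟨∅, by simp⟩⟩

theorem exists_mem_relIdeal [IsPRadical i p] {y : E} (hy : π y = 0) : ∃ T, y ∈ relIdeal i π T := by
  obtain ⟨n, f, hf⟩ := IsPRadical.pow_mem i p y
  have : π (i f) = 0 := by rw [hf, map_pow, hy, zero_pow (pow_ne_zero _ (Fact.out : p.Prime).ne_zero)]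
  refine ⟨⟨{f}, by simpa using this⟩, p ^ n, ?_⟩
  rw [← hf]
  exact Ideal.mem_map_of_mem _ (Ideal.subset_span (by simp))

variable [CharP A.obj.right p] [PerfectRing A.obj.right p] (hc : ∀ b, π (i (c b)) = A.obj.hom.hom b)
  [IsPRadical i p] (hπ : Function.Surjective π)

/-- The system of quotients by finitely many relations. -/
noncomputable def relSys : Sys A (Rels i π) :=
  sysOfIdeals (relIdeal i π) (fun _ _ h => relIdeal_mono i π h) (relIdeal_bijective i π) (i.comp c) π hπ
    (relIdeal_le i π) (fun _ hy => exists_mem_relIdeal (p := p) i π hy) hc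

include hc hπ in
/-- Finitely many relations suffice. -/
theorem exists_relations [IsFinitelyPresentable.{u} A] {ι : Type u} [Finite ι] (X : ι → P0)
    (hext : ∀ (R : Type u) [CommRing R] (f g : P0 →+* R),
      (∀ b, f (c b) = g (c b)) → (∀ a, f (X a) = g (X a)) → f = g) :
    ∃ T : Rels i π, ∀ f, π (i f) = 0 → i f ∈ relIdeal i π T := by
  obtain ⟨T, q, hq, hqs⟩ := (relSys i π c hc hπ).exists_section
  choose y hy using fun a => Ideal.Quotient.mk_surjective (I := relIdeal i π T) (q (π (i (X a))))
  have hy' : ∀ a, π (y a - i (X a)) = 0 := fun a => by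
    rw [map_sub, sub_eq_zero]
    exact (congrArg ((relSys i π c hc hπ).incl T) (hy a)).trans (hq (π (i (X a))))
  choose Ta hTa using fun a => exists_mem_relIdeal (p := p) i π (hy' a)
  obtain ⟨T1, hT1⟩ := Finite.exists_le Ta
  obtain ⟨T', hT, hT1'⟩ := exists_ge_ge T T1
  have e : ((Ideal.Quotient.factor (relIdeal_mono i π hT)).comp q).comp (π.comp i) =
      (Ideal.Quotient.mk (relIdeal i π T')).comp i := by
    refine hext _ _ _ (fun b => ?_) (fun a => ?_)
    · exact congrArg (Ideal.Quotient.factor (relIdeal_mono i π hT))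
        ((congrArg q (hc b)).trans (hqs b))
    · refine (congrArg (Ideal.Quotient.factor (relIdeal_mono i π hT)) (hy a).symm).trans ?_
      exact Ideal.Quotient.eq.2 (relIdeal_mono i π ((hT1 a).trans hT1') (hTa a))
  refine ⟨T', fun f hf => Ideal.Quotient.eq_zero_iff_mem.1 ?_⟩
  have h0 := RingHom.congr_fun e f
  rw [RingHom.comp_apply, RingHom.comp_apply π i, hf, map_zero] at h0
  exact h0.symm

end Rel

/-- A finitely presentable perfect algebra is the perfection of a finitely presented algebra. -/
theorem exists_model [CharP B p] [PerfectRing B p] (A : Cat p B) [IsFinitelyPresentable.{u} A] :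
    ∃ (A₀ : Type u) (_ : CommRing A₀) (_ : Algebra B A₀) (_ : Algebra.FinitePresentation B A₀)
      (k : A₀ →+* A.obj.right), k.comp (algebraMap B A₀) = A.obj.hom.hom ∧ IsPRadical k p := by
  classical
  rcases subsingleton_or_nontrivial A.obj.right with hsub | hnt
  · have : Algebra.FinitePresentation B (B ⧸ (⊤ : Ideal B)) :=
      Algebra.FinitePresentation.quotient ⟨{1}, by simp⟩
    refine ⟨B ⧸ (⊤ : Ideal B), inferInstance, inferInstance, this,
      Ideal.Quotient.lift ⊤ A.obj.hom.hom (fun _ _ => @Subsingleton.elim A.obj.right hsub _ _),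
      RingHom.ext fun _ => @Subsingleton.elim A.obj.right hsub _ _,
      ⟨fun x => ⟨0, 0, @Subsingleton.elim A.obj.right hsub _ _⟩, fun x _ => ?_⟩⟩
    have : Subsingleton (B ⧸ (⊤ : Ideal B)) := Ideal.Quotient.subsingleton_iff.2 rfl
    rw [Subsingleton.elim x 0]
    exact zero_mem _
  have : CharP A.obj.right p := (CharP.charP_iff_prime_eq_zero Fact.out).2 A.property.1
  have : PerfectRing A.obj.right p := ⟨A.property.2⟩
  let _ : Algebra B A.obj.right := algA A
  obtain ⟨S, hgen⟩ := exists_generators A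
  have : CharP (MvPolynomial (S : Set A.obj.right) B) p :=
    charP_of_injective_ringHom (MvPolynomial.C_injective _ _) p
  let k : MvPolynomial (S : Set A.obj.right) B →ₐ[B] A.obj.right := MvPolynomial.aeval Subtype.val
  let π := PerfectClosure.lift (MvPolynomial (S : Set A.obj.right) B) p A.obj.right k.toRingHom
  have hπof : ∀ f, π (PerfectClosure.of _ p f) = k f := fun f =>
    RingHom.congr_fun ((PerfectClosure.lift _ p A.obj.right).symm_apply_apply k.toRingHom) f
  have hk : ∀ x, ∃ n f, k f = x ^ p ^ n := by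
    intro x
    obtain ⟨n, hn⟩ := hgen x
    rw [Algebra.adjoin_eq_range] at hn
    obtain ⟨f, hf⟩ := hn
    exact ⟨n, f, hf⟩
  have hπ : Function.Surjective π := by
    intro x
    obtain ⟨n, f, hf⟩ := hk x
    refine ⟨PerfectClosure.mk _ p (n, f), (injective_frobenius A.obj.right p).iterate n ?_⟩
    rw [← RingHom.map_iterate_frobenius, PerfectClosure.iterate_frobenius_mk, hπof, hf, iterate_frobenius]
  obtain ⟨T, hT⟩ := exists_relations (PerfectClosure.of _ p) π MvPolynomial.C
    (fun b => (hπof _).trans (k.commutes b)) hπ MvPolynomial.X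
    (fun R _ f g hb ha => MvPolynomial.ringHom_ext hb ha)
  let I0 : Ideal (MvPolynomial (S : Set A.obj.right) B) := Ideal.span (T.1 : Set _)
  have : Algebra.FinitePresentation B (MvPolynomial (S : Set A.obj.right) B ⧸ I0) :=
    Algebra.FinitePresentation.quotient ⟨T.1, rfl⟩
  have hI0 : I0 ≤ RingHom.ker k.toRingHom := Ideal.span_le.2 fun f hf => (hπof f).symm.trans (T.2 f hf)
  refine ⟨_ ⧸ I0, inferInstance, inferInstance, this, Ideal.Quotient.lift I0 k.toRingHom fun a ha => hI0 ha,
    RingHom.ext fun b => k.commutes b, ⟨fun x => ?_, fun x hx => ?_⟩⟩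
  · obtain ⟨n, f, hf⟩ := hk x
    exact ⟨n, Ideal.Quotient.mk I0 f, hf⟩
  · obtain ⟨f, rfl⟩ := Ideal.Quotient.mk_surjective x
    change k f = 0 at hx
    obtain ⟨N, hN⟩ := mem_radical_of_map (PerfectClosure.of _ p) I0 (hT f ((hπof f).trans hx))
    rw [pNilradical_prime Fact.out, mem_nilradical]
    exact ⟨N, by rw [← map_pow]; exact Ideal.Quotient.eq_zero_iff_mem.2 hN⟩

end Groth.Agent.H84PerfModel
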